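import Mathlib.CategoryTheory.Localization.CalculusOfFractions
import Mathlib.CategoryTheory.MorphismProperty.Composition
import Mathlib.CategoryTheory.Preadditive.AdditiveFunctor
import Mathlib.CategoryTheory.Limits.Shapes.ZeroMorphisms

/-!
# A criterion for an additive functor to be a localization

An essentially surjective additive functor `L` such that every morphism `L A ⟶ L B` becomes, after
precomposition with some `s` inverted by `L`, the image of a morphism, and such that every morphism
killed by `L` is killed by precomposition with some `s` inverted by `L`, is a localization functor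
for the morphisms it inverts.
-/

set_option autoImplicit false
set_option linter.style.haveILetI false

namespace Groth.Agent.Lib.CohDelta.CohQuot.Loc

open CategoryTheory

universe v₁ v₂ u₁ u₂

variable {C : Type u₁} [Category.{v₁} C] [Preadditive C] {D : Type u₂} [Category.{v₂} D]
  [Preadditive D] (L : C ⥤ D) [L.Additive]

/-- The morphisms inverted by `L`. -/
abbrev W : MorphismProperty C := fun _ _ f => IsIso (L.map f)

instance : (W L).IsMultiplicative where
  id_mem X := by show IsIso (L.map (𝟙 X)); infer_instance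
  comp_mem f g (hf : IsIso (L.map f)) (hg : IsIso (L.map g)) := by
    show IsIso (L.map (f ≫ g))
    rw [L.map_comp]
    infer_instance

variable
  (hfull : ∀ {A B : C} (g : L.obj A ⟶ L.obj B), ∃ (A' : C) (s : A' ⟶ A) (f : A' ⟶ B),
    IsIso (L.map s) ∧ L.map f = L.map s ≫ g)
  (hfaith : ∀ {A B : C} (f : A ⟶ B), L.map f = 0 → ∃ (A' : C) (s : A' ⟶ A),
    IsIso (L.map s) ∧ s ≫ f = 0)

include hfull hfaith

theorem hasRightCalculusOfFractions : (W L).HasRightCalculusOfFractions where
  exists_rightFraction := fun X Y φ => by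
    haveI : IsIso (L.map φ.s) := φ.hs
    obtain ⟨A, t, h, ht, hh⟩ := hfull (L.map φ.f ≫ inv (L.map φ.s))
    obtain ⟨A', r, hr, hr'⟩ := hfaith (h ≫ φ.s - t ≫ φ.f) (by
      rw [L.map_sub, L.map_comp, L.map_comp, hh]
      simp)
    haveI := hr
    haveI := ht
    refine ⟨MorphismProperty.RightFraction.mk (r ≫ t) ?_ (r ≫ h), ?_⟩
    · show IsIso (L.map (r ≫ t))
      rw [L.map_comp]
      infer_instance
    · rw [Preadditive.comp_sub, sub_eq_zero] at hr'
      simp only [Category.assoc]
      exact hr'.symm
  ext := fun X Y Y' f₁ f₂ s hs h => by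
    haveI : IsIso (L.map s) := hs
    obtain ⟨A', t, ht, ht'⟩ := hfaith (f₁ - f₂) (by
      rw [L.map_sub, sub_eq_zero, ← cancel_mono (L.map s), ← L.map_comp, ← L.map_comp, h])
    rw [Preadditive.comp_sub, sub_eq_zero] at ht'
    exact ⟨A', t, ht, ht'⟩

/-- The criterion. -/
theorem isLocalization [L.EssSurj] : L.IsLocalization (W L) := by
  haveI := hasRightCalculusOfFractions L hfull hfaith
  have hL : (W L).IsInvertedBy L := fun _ _ _ h => h
  let Φ : (W L).Localization ⥤ D := Localization.Construction.lift L hL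
  let e : (W L).Q ⋙ Φ ≅ L := eqToIso (Localization.Construction.fac L hL)
  haveI : (W L).Q.EssSurj := Localization.essSurj (W L).Q (W L)
  haveI : Φ.EssSurj :=
    ⟨fun d => ⟨(W L).Q.obj (L.objPreimage d), ⟨e.app _ ≪≫ L.objObjPreimageIso d⟩⟩⟩
  have key : ∀ {A B : C} (g : L.obj A ⟶ L.obj B),
      ∃ p : (W L).Q.obj A ⟶ (W L).Q.obj B, Φ.map p = e.hom.app A ≫ g ≫ e.inv.app B := by
    intro A B g
    obtain ⟨A', s, f, hs, hf⟩ := hfull g
    haveI : IsIso ((W L).Q.map s) := Localization.inverts (W L).Q (W L) s hs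
    refine ⟨inv ((W L).Q.map s) ≫ (W L).Q.map f, ?_⟩
    rw [Φ.map_comp, Functor.map_inv, IsIso.inv_comp_eq]
    have h1 := e.hom.naturality f
    have h2 := e.hom.naturality s
    simp only [Functor.comp_map] at h1 h2
    rw [reassoc_of% h2, ← reassoc_of% hf, ← reassoc_of% h1, ← NatTrans.comp_app, e.hom_inv_id]
    exact (Category.comp_id _).symm
  haveI : Φ.Full := by
    refine ⟨fun {a b} g => ?_⟩
    let ia := (W L).Q.objObjPreimageIso a
    let ib := (W L).Q.objObjPreimageIso b
    obtain ⟨p, hp⟩ := key (e.inv.app _ ≫ Φ.map ia.hom ≫ g ≫ Φ.map ib.inv ≫ e.hom.app _)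
    refine ⟨ia.inv ≫ p ≫ ib.hom, ?_⟩
    simp only [Category.assoc, Iso.hom_inv_id_app_assoc] at hp
    rw [Φ.map_comp, Φ.map_comp, hp]
    simp [← Φ.map_comp, ← Φ.map_comp_assoc]
  haveI : Φ.Faithful := by
    have key₂ : ∀ {A B : C} (p q : (W L).Q.obj A ⟶ (W L).Q.obj B), Φ.map p = Φ.map q → p = q := by
      intro A B p q h
      obtain ⟨φ, rfl⟩ := Localization.exists_rightFraction (W L).Q (W L) p
      haveI : IsIso ((W L).Q.map φ.s) := Localization.inverts (W L).Q (W L) φ.s φ.hs
      rw [← cancel_epi ((W L).Q.map φ.s), MorphismProperty.RightFraction.map_s_comp_map]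
      obtain ⟨ψ, hψ⟩ := Localization.exists_rightFraction (W L).Q (W L) ((W L).Q.map φ.s ≫ q)
      rw [hψ]
      haveI : IsIso ((W L).Q.map ψ.s) := Localization.inverts (W L).Q (W L) ψ.s ψ.hs
      rw [← cancel_epi ((W L).Q.map ψ.s), MorphismProperty.RightFraction.map_s_comp_map,
        ← Functor.map_comp]
      have h' : L.map (ψ.s ≫ φ.f) = L.map ψ.f := by
        have : Φ.map ((W L).Q.map (ψ.s ≫ φ.f)) = Φ.map ((W L).Q.map ψ.f) := by
          rw [Functor.map_comp (W L).Q, ← MorphismProperty.RightFraction.map_s_comp_map φ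
            (W L).Q (Localization.inverts (W L).Q (W L)),
            ← MorphismProperty.RightFraction.map_s_comp_map ψ
            (W L).Q (Localization.inverts (W L).Q (W L)), ← hψ]
          simp only [Φ.map_comp, h]
        have h1 := e.hom.naturality (ψ.s ≫ φ.f)
        have h2 := e.hom.naturality ψ.f
        simp only [Functor.comp_map] at h1 h2
        rw [← cancel_epi (e.hom.app _), ← h1, ← h2, this]
      obtain ⟨A', r, hr, hr'⟩ := hfaith (ψ.s ≫ φ.f - ψ.f) (by rw [L.map_sub, h', sub_self])
      haveI : IsIso ((W L).Q.map r) := Localization.inverts (W L).Q (W L) r hr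
      rw [Preadditive.comp_sub, sub_eq_zero] at hr'
      rw [← cancel_epi ((W L).Q.map r), ← Functor.map_comp, ← Functor.map_comp, hr']
    refine ⟨fun {a b} p q h => ?_⟩
    let ia := (W L).Q.objObjPreimageIso a
    let ib := (W L).Q.objObjPreimageIso b
    rw [← cancel_epi ia.hom, ← cancel_mono ib.inv]
    exact key₂ _ _ (by simp only [Φ.map_comp, h])
  haveI : Φ.IsEquivalence := {}
  exact Functor.IsLocalization.of_equivalence_target (W L).Q (W L) L Φ.asEquivalence e

end Groth.Agent.Lib.CohDelta.CohQuot.Loc
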