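import Groth.Agent.Lib.CohDelta.IdealMul.DevTools
import Groth.Agent.H52.DevSummand

/-!
# Serre classes of coherent modules and supports
-/

set_option autoImplicit false
set_option linter.style.haveILetI false
universe u

open CategoryTheory CategoryTheory.Limits AlgebraicGeometry Opposite TopologicalSpace

namespace Groth.Agent.Lib.CohDelta.CohQuot.Serre

open Groth.Agent.Lib Groth.Agent.Lib.Devissage.Basic Groth.Agent.Lib.Modules.StalkModule
  Groth.Agent.H52.DevSummand

variable {X : Scheme.{u}}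

/-- The condition of the statements. -/
def IsSerre (Q : ObjectProperty X.Modules) : Prop :=
  ∀ S : ShortComplex X.Modules, S.ShortExact → Coh.IsCoh S.X₁ → Coh.IsCoh S.X₂ → Coh.IsCoh S.X₃ →
    (Q S.X₂ ↔ Q S.X₁ ∧ Q S.X₃)

theorem isSerre_supported (Z : Set X) :
    IsSerre (fun M : X.Modules => CohB1.support M ⊆ Z) := fun S hS _ _ _ => by
  show CohB1.support S.X₂ ⊆ Z ↔ _
  rw [Modules.Support.support_eq_union_of_shortExact hS, Set.union_subset_iff]

theorem isCoh_of_isZero [IsLocallyNoetherian X] {M F : X.Modules} (hM : IsZero M)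
    (hF : Coh.IsCoh F) : Coh.IsCoh M :=
  CohBasics.Closure.isCoh_of_iso
    ((isZero_kernel_of_mono (𝟙 F)).iso hM) (CohBasics.Closure.isCoh_kernel (𝟙 F) hF hF.1)

theorem isSerre_of_isZero [IsLocallyNoetherian X] {Q : ObjectProperty X.Modules} (hQ : IsSerre Q)
    {F : X.Modules} (hF : Coh.IsCoh F) (hQF : Q F) {M : X.Modules} (hM : IsZero M) : Q M := by
  let S : ShortComplex X.Modules := ShortComplex.mk (0 : M ⟶ F) (𝟙 F) zero_comp
  have hS : S.ShortExact := by
    haveI : Mono S.f := ⟨fun a b _ => hM.eq_of_tgt a b⟩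
    haveI : Epi S.g := inferInstanceAs (Epi (𝟙 F))
    exact ⟨(S.exact_iff_mono rfl).mpr (inferInstanceAs (Mono (𝟙 F)))⟩
  exact ((hQ S hS (isCoh_of_isZero hM hF) hF hF).mp hQF).1

theorem thick_of_isSerre [IsLocallyNoetherian X] {Q : ObjectProperty X.Modules} (hQ : IsSerre Q)
    (T : Set X) {F : X.Modules} (hF : Coh.IsCoh F) (hQF : Q F) :
    ProperFin.Devissage.Thick T (fun M => Q M) :=
  ⟨fun _ hM => isSerre_of_isZero hQ hF hQF hM, fun S hS a b c =>
    have h := hQ S hS a.1 b.1 c.1
    ⟨fun h₁ h₃ => h.mpr ⟨h₁, h₃⟩, fun h₂ _ => (h.mp h₂).1, fun _ h₂ => (h.mp h₂).2⟩⟩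

/-- A Serre class containing `F` contains every coherent module supported in the support of `F`. -/
theorem mem_of_support_subset [IsNoetherian X] {Q : ObjectProperty X.Modules} (hQ : IsSerre Q)
    {F : X.Modules} (hF : Coh.IsCoh F) (hQF : Q F) {M : X.Modules} (hM : Coh.IsCoh M)
    (h : CohB1.support M ⊆ CohB1.support F) : Q M := by
  haveI := hF.2
  refine devissage' (fun M => Q M) ⟨_, Modules.Support.isClosed_support F⟩
    (thick_of_isSerre hQ _ hF hQF) (fun y hy small => ?_) M ⟨hM, h⟩
  obtain ⟨B, hB, hBy⟩ := Devissage.Closure.exists_generator y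
  refine ⟨B, hB, hBy, ?_⟩
  haveI := Modules.GenStalk.finite_stalk F y
  haveI : Nontrivial (F.presheaf.stalk y) := not_subsingleton_iff_nontrivial.mp hy
  obtain ⟨φ, hφ, hnil⟩ := exists_surjective_residue (R := X.presheaf.stalk y)
    (M := F.presheaf.stalk y) (N := B.presheaf.stalk y) hBy
  obtain ⟨M', α, β, hM', hαy, hβy, -⟩ := bridge hF hB.1 y φ hφ hnil
  -- the image of `α`
  have hI : Coh.IsCoh (Abelian.image α) := CohBasics.Closure.isCoh_image α hF.1 hM'.1
  obtain ⟨S₁, hS₁⟩ : ∃ S : ShortComplex X.Modules, S.ShortExact ∧ S.X₁ = kernel α ∧ S.X₂ = F ∧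
      S.X₃ = Abelian.image α :=
    ⟨ShortComplex.mk (kernel.ι α) (Abelian.factorThruImage α) (by
        rw [← cancel_mono (Abelian.image.ι α), Category.assoc, Abelian.image.fac, kernel.condition,
          zero_comp]),
      ShortComplex.ShortExact.mk'
        ((ShortComplex.exact_iff_of_epi_of_isIso_of_mono
          (φ := ({ τ₁ := 𝟙 _, τ₂ := 𝟙 _, τ₃ := Abelian.image.ι α } :
            ShortComplex.mk (kernel.ι α) (Abelian.factorThruImage α) (by
              rw [← cancel_mono (Abelian.image.ι α), Category.assoc, Abelian.image.fac,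
                kernel.condition, zero_comp]) ⟶
            ShortComplex.mk (kernel.ι α) α (kernel.condition α)))).mpr
          (ShortComplex.exact_kernel α)) inferInstance inferInstance, rfl, rfl, rfl⟩
  obtain ⟨hse, e1, e2, e3⟩ := hS₁
  have hQI : Q (Abelian.image α) := by
    have := (hQ S₁ hse (e1 ▸ CohBasics.Closure.isCoh_kernel α hF hM'.1.1) (e2 ▸ hF)
      (e3 ▸ hI)).mp (e2 ▸ hQF)
    exact e3 ▸ this.2
  -- `M'`
  let Sc : ShortComplex X.Modules := ShortComplex.mk (Abelian.image.ι α) (cokernel.π α)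
    (kernel.condition _)
  have hSc : Sc.ShortExact := ShortComplex.ShortExact.mk'
    (ShortComplex.exact_kernel (cokernel.π α)) (inferInstanceAs (Mono (kernel.ι (cokernel.π α))))
    (inferInstanceAs (Epi (cokernel.π α)))
  have hQc : Q (cokernel α) :=
    small _ ⟨CohBasics.Closure.isCoh_cokernel α hF.1 hM'.1,
      (Modules.Support.support_subset_of_epi (cokernel.π α)).trans hM'.2⟩
      (not_mem_support_cokernel α hαy)
  have hQM : Q M' := (hQ Sc hSc hI hM'.1 (CohBasics.Closure.isCoh_cokernel α hF.1 hM'.1)).mpr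
    ⟨hQI, hQc⟩
  -- `B`
  have hKc : CohIn (closure {y}) (kernel β) :=
    ⟨CohBasics.Closure.isCoh_kernel β hB.1 hM'.1.1,
      (Modules.Support.support_subset_of_mono (kernel.ι β)).trans hB.2⟩
  have hQK : Q (kernel β) := small _ hKc (not_mem_support_kernel β hβy.1)
  have hIb : Coh.IsCoh (Abelian.image β) := CohBasics.Closure.isCoh_image β hB.1.1 hM'.1
  let Sm : ShortComplex X.Modules := ShortComplex.mk (Abelian.image.ι β) (cokernel.π β)
    (kernel.condition _)
  have hSm : Sm.ShortExact := ShortComplex.ShortExact.mk'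
    (ShortComplex.exact_kernel (cokernel.π β)) (inferInstanceAs (Mono (kernel.ι (cokernel.π β))))
    (inferInstanceAs (Epi (cokernel.π β)))
  have hQIb : Q (Abelian.image β) :=
    ((hQ Sm hSm hIb hM'.1 (CohBasics.Closure.isCoh_cokernel β hB.1.1 hM'.1)).mp hQM).1
  have w : kernel.ι β ≫ Abelian.factorThruImage β = 0 := by
    rw [← cancel_mono (Abelian.image.ι β), Category.assoc, Abelian.image.fac, kernel.condition,
      zero_comp]
  let Sb : ShortComplex X.Modules := ShortComplex.mk (kernel.ι β) (Abelian.factorThruImage β) w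
  let φb : Sb ⟶ ShortComplex.mk (kernel.ι β) β (kernel.condition β) :=
    { τ₁ := 𝟙 _, τ₂ := 𝟙 _, τ₃ := Abelian.image.ι β }
  have hSb : Sb.ShortExact := ShortComplex.ShortExact.mk'
    ((ShortComplex.exact_iff_of_epi_of_isIso_of_mono φb).mpr (ShortComplex.exact_kernel β))
    (inferInstanceAs (Mono (kernel.ι β))) (inferInstanceAs (Epi (Abelian.factorThruImage β)))
  exact (hQ Sb hSb hKc.1 hB.1 hIb).mpr ⟨hQK, hQIb⟩

/-- A coherent module with a prescribed closed support. -/
theorem exists_support_eq [IsNoetherian X] (Z : Closeds X) :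
    ∃ F : X.Modules, Coh.IsCoh F ∧ CohB1.support F = (Z : Set X) := by
  let I := Scheme.IdealSheafData.vanishingIdeal Z
  refine ⟨(Coh.push I.subschemeι).obj (Coh.structureModule I.subscheme),
    Devissage.Closure.isCoh_push_structureModule I.subschemeι, ?_⟩
  have hr : Set.range I.subschemeι = (Z : Set X) := by
    rw [Scheme.IdealSheafData.range_subschemeι, Scheme.IdealSheafData.coe_support_vanishingIdeal]
  refine subset_antisymm ((IdealMul.DevTools.support_push _ _).trans hr.subset) fun x hx => ?_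
  obtain ⟨z, rfl⟩ := hr.ge hx
  intro hs
  haveI := hs
  haveI : Subsingleton ((Coh.structureModule I.subscheme).presheaf.stalk z) :=
    (Cyc.SheafLen.pushStalk_bijective I.subschemeι (Coh.structureModule I.subscheme) z).2.subsingleton
  obtain ⟨e⟩ := Cyc.SheafLen.exists_unit_stalk_equiv z
  exact not_subsingleton (I.subscheme.presheaf.stalk z) e.symm.toEquiv.subsingleton

end Groth.Agent.Lib.CohDelta.CohQuot.Serre
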